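import Groth.Agent.SBAmitsurLib.Main
import Mathlib.AlgebraicGeometry.Birational.Birational

/-! Birational Severi–Brauer varieties. -/

set_option autoImplicit false
set_option linter.style.haveILetI false
set_option linter.unusedSectionVars false
universe u

noncomputable section

open CategoryTheory CategoryTheory.Limits AlgebraicGeometry
open scoped TensorProduct

namespace SBAmitsur

attribute [local instance] Curv2.stalkAlgebra

variable {k : Type u} [Field k] {A : Type u} [Ring A] [Algebra k A] [Algebra.IsCentral k A] [IsSimpleRing A]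
  [Module.Finite k A] {B : Type u} [Ring B] [Algebra k B] [Algebra.IsCentral k B] [IsSimpleRing B] [Module.Finite k B]
  {X Y : Scheme.{u}} {f : X ⟶ Spec (CommRingCat.of k)} {g : Y ⟶ Spec (CommRingCat.of k)}

/-- A rational map between Severi–Brauer varieties relates the classes. -/
theorem cl_mem_of_map {n m : ℕ} (hn : 0 < n) (hm : 0 < m) (hA : Module.finrank k A = n * n)
    (hB : Module.finrank k B = m * m) (hX : BrSev.IsSBOf k A (n * n - n) f)
    (hY : BrSev.IsSBOf k B (m * m - m) g) (U : X.Opens) (hU : Nonempty U) (h : U.toScheme ⟶ Y)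
    (hh : h ≫ g = U.ι ≫ f) : ∃ i : ℕ, CSALib.cl k B = CSALib.cl k A ^ i := by
  letI : X.Over (Spec (CommRingCat.of k)) := ⟨f⟩
  obtain ⟨e⟩ := exists_splitting hn hA hX (AlgebraicClosure k)
  haveI : IsIntegral X := isIntegral_of_splitting e
  refine (splits_iff hn hA hX).1 ?_
  obtain ⟨σ⟩ := hY
  have hη : genericPoint X ∈ U := by
    obtain ⟨⟨x, hx⟩⟩ := hU
    exact ((genericPoint_spec X).specializes trivial).mem_open U.2 hx
  have hr : Set.range (X.fromSpecStalk (genericPoint X)) ⊆ Set.range U.ι := by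
    rw [Scheme.range_fromSpecStalk, Scheme.Opens.range_ι]
    exact fun y hy => hy.mem_open U.2 hη
  let z := IsOpenImmersion.lift U.ι (X.fromSpecStalk (genericPoint X)) hr
  refine splits_of_ideal hm hB (σ.bij X.functionField ⟨z ≫ h, ?_⟩)
  rw [Category.assoc, hh, ← Category.assoc, IsOpenImmersion.lift_fac]
  let p := X ↘ Spec (CommRingCat.of k)
  have h : X.fromSpecStalk (genericPoint X) ≫ p = Spec.map ((Scheme.ΓSpecIso (CommRingCat.of k)).inv ≫ p.appTop ≫
      X.presheaf.germ ⊤ (genericPoint X) trivial) := by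
    have hV := isAffineOpen_top (Spec (CommRingCat.of k))
    rw [← Scheme.SpecMap_stalkMap_fromSpecStalk p, ← hV.fromSpecStalk_eq_fromSpecStalk (x := p (genericPoint X)) trivial]
    simp only [IsAffineOpen.fromSpecStalk, IsAffineOpen.fromSpec_top, Scheme.isoSpec_Spec_inv, ← Spec.map_comp]
    congr 1
    simp [Scheme.Hom.appTop]
  exact h

/-- Birational Severi–Brauer varieties have classes generating the same subgroup. -/
theorem cl_mem_of_birational {n m : ℕ} (hn : 0 < n) (hm : 0 < m) (hA : Module.finrank k A = n * n)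
    (hB : Module.finrank k B = m * m) (hX : BrSev.IsSBOf k A (n * n - n) f)
    (hY : BrSev.IsSBOf k B (m * m - m) g) (U : X.Opens) (V : Y.Opens) (hU : Nonempty U)
    (φ : U.toScheme ≅ V.toScheme) (hφ : φ.hom ≫ V.ι ≫ g = U.ι ≫ f) :
    (∃ i : ℕ, CSALib.cl k B = CSALib.cl k A ^ i) ∧ ∃ i : ℕ, CSALib.cl k A = CSALib.cl k B ^ i := by
  refine ⟨cl_mem_of_map hn hm hA hB hX hY U hU (φ.hom ≫ V.ι) (by rw [Category.assoc, hφ]),
    cl_mem_of_map hm hn hB hA hY hX V (hU.map fun x => φ.hom x) (φ.inv ≫ U.ι) ?_⟩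
  rw [Category.assoc, ← hφ, Iso.inv_hom_id_assoc]

end SBAmitsur
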