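import Groth.Agent.SBAmitsurLib.Free

/-! The theorem of Amitsur on the function field of a Severi–Brauer variety. -/

set_option autoImplicit false
set_option linter.style.haveILetI false
set_option linter.unusedSectionVars false
universe u

noncomputable section

open CategoryTheory CategoryTheory.Limits AlgebraicGeometry
open scoped TensorProduct
open DevissLib (St)
open W4c1astiltbs12 (pow)

namespace SBAmitsur

attribute [local instance] Abelian.hasFiniteBiproducts

/-- A scheme with a splitting is integral. -/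
theorem isIntegral_of_splitting {k : Type u} [Field k] {X : Scheme.{u}} {f : X ⟶ Spec (CommRingCat.of k)}
    {K : Type u} [Field K] [Algebra k K] {m : ℕ} (e : BrSev.Splitting f K m) : IsIntegral X := by
  haveI : IsIntegral (CohB1.ProjSpace m K) := PicPnLib.isIntegral_projSpace m K
  haveI : Nonempty (BrSev.bc f K) := ⟨e.iso.inv (Classical.arbitrary _)⟩
  haveI : IsIntegral (BrSev.bc f K) := isIntegral_of_isOpenImmersion e.iso.hom
  haveI := surjective_proj (f := f) (K := K)
  haveI : Flat (BrSev.proj f K) := inferInstance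
  haveI : IrreducibleSpace X :=
    { isPreirreducible_univ := by
        rw [← (BrSev.proj f K).surjective.range_eq, ← Set.image_univ]
        exact (PreirreducibleSpace.isPreirreducible_univ).image _ (BrSev.proj f K).continuous.continuousOn
      toNonempty := ⟨BrSev.proj f K (Classical.arbitrary _)⟩ }
  haveI : ∀ x : X, _root_.IsReduced (X.presheaf.stalk x) := fun x => by
    obtain ⟨z, rfl⟩ := (BrSev.proj f K).surjective x
    letI := ((BrSev.proj f K).stalkMap z).hom.toAlgebra
    haveI : IsLocalHom (algebraMap (X.presheaf.stalk (BrSev.proj f K z)) ((BrSev.bc f K).presheaf.stalk z)) :=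
      inferInstanceAs (IsLocalHom ((BrSev.proj f K).stalkMap z).hom)
    haveI : Module.Flat (X.presheaf.stalk (BrSev.proj f K z)) ((BrSev.bc f K).presheaf.stalk z) :=
      Flat.stalkMap (BrSev.proj f K) z
    haveI : Module.FaithfullyFlat (X.presheaf.stalk (BrSev.proj f K z)) ((BrSev.bc f K).presheaf.stalk z) :=
      Module.FaithfullyFlat.of_flat_of_isLocalHom
    exact isReduced_of_injective _ (FaithfulSMul.algebraMap_injective (X.presheaf.stalk (BrSev.proj f K z))
      ((BrSev.bc f K).presheaf.stalk z))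
  haveI := isReduced_of_isReduced_stalk X
  exact isIntegral_of_irreducibleSpace_of_isReduced X

variable {k : Type u} [Field k] {A : Type u} [Ring A] [Algebra k A] [Algebra.IsCentral k A] [IsSimpleRing A]
  [Module.Finite k A]

/-- Existence of a splitting over an algebraically closed field. -/
theorem exists_splitting {n : ℕ} (hn : 0 < n) (hA : Module.finrank k A = n * n) {X : Scheme.{u}}
    {f : X ⟶ Spec (CommRingCat.of k)} (hX : BrSev.IsSBOf k A (n * n - n) f) (K : Type u) [Field K] [Algebra k K]
    [IsAlgClosed K] : Nonempty (BrSev.Splitting f K (n - 1)) := by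
  obtain ⟨n', hn', ⟨eK⟩⟩ := CSALib.exists_matrix_of_isSepClosed (k := K) (K ⊗[k] A)
  have hn'' : n' = n := by
    have h := eK.toLinearEquiv.finrank_eq
    rw [Module.finrank_baseChange, hA, Module.finrank_matrix, Fintype.card_fin, Module.finrank_self, mul_one] at h
    exact (Nat.mul_self_inj.1 h).symm
  subst hn''
  obtain ⟨σ⟩ := id hX
  exact SBSplitLib.nonempty_splitting f (⟨eK⟩ : SBAutLib.Split k A n' K) hA hn σ

/-- Classes of isotypical bundles are powers of the class of the algebra. -/
theorem cls_mem {n : ℕ} (hn : 0 < n) (hA : Module.finrank k A = n * n) {X : Scheme.{u}}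
    {f : X ⟶ Spec (CommRingCat.of k)} [IsProper f] (hX : BrSev.IsSBOf k A (n * n - n) f)
    {K : Type u} [Field K] [Algebra k K] [IsAlgClosure k K] (e : BrSev.Splitting f K (n - 1))
    [X.Over (Spec (CommRingCat.of k))] (hXo : X ↘ Spec (CommRingCat.of k) = f)
    {W : X.Modules} (hW : Coh.IsCoh W) {j : ℤ} {r : ℕ} (hr : 0 < r) (hWt : BrSev.IsTwPow e j r W) :
    ∃ i : ℕ, SBTw.cls k W = CSALib.cl k A ^ i := by
  haveI : IsAlgClosed K := IsAlgClosure.isAlgClosed k
  haveI : IsProper (X ↘ Spec (CommRingCat.of k)) := hXo ▸ ‹IsProper f›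
  haveI := CurvLib.isNoetherian k (X := X)
  obtain ⟨σ⟩ := id hX
  obtain ⟨m, rfl⟩ := Nat.exists_eq_succ_of_ne_zero hn.ne'
  let b := Module.finBasisOfFinrankEq k A hA
  obtain ⟨d, hd, hex⟩ := KSMod.exists_twPow_of_isSBOf A hn hA hX e
  obtain ⟨V, hV, hVt⟩ := hex (-j)
  obtain ⟨j₀, ht, hj₀⟩ := SBTaut.exists_type (m := m) hA σ b rfl e
  by_cases hm : m = 0
  · subst hm
    obtain ⟨u⟩ := SBTaut.twist_trivial_zero (K := K) j
    exact ⟨0, (SBTw.cl_twPow_zero e hXo hW hr
      ⟨hWt.some ≪≫ Sigma.mapIso fun _ => (Scheme.Modules.pullback e.iso.hom).mapIso u⟩).trans (pow_zero _).symm⟩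
  obtain ⟨hP, hPt, hPc⟩ := SBTaut.cls_pow (m := m) hA σ b rfl e hXo ht j.natAbs
  have h1 := hj₀ (by omega)
  rcases (show (j.natAbs : ℤ) * j₀ = j ∨ (j.natAbs : ℤ) * j₀ = -j by
    rcases Int.natAbs_eq j₀ with h | h <;> rw [h1] at h <;> simp only [h, Nat.cast_one, mul_one, mul_neg] <;> omega)
    with h | h
  · rw [h] at hPt
    exact ⟨j.natAbs, (SBTw.cl_unique e hXo hW hP (Groth.Agent.PerfLib.isCoh_of_isFinLocFree hV) hr
      (pow_pos m.succ_pos _) hd hWt hPt hVt).trans hPc⟩
  · rw [h] at hPt
    have h2 := SBTw.isTwPow_tensor hWt hPt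
    rw [add_neg_cancel] at h2
    have h3 := SBTw.cl_twPow_zero e hXo (SBTaut.isCoh_tensor hW hP) (Nat.mul_pos hr (pow_pos m.succ_pos _)) h2
    rw [SBTw.cl_tensor e hXo hW hP hr (pow_pos m.succ_pos _) hWt hPt, hPc] at h3
    refine ⟨(orderOf (CSALib.cl k A) - 1) * j.natAbs, ?_⟩
    rw [eq_inv_of_mul_eq_one_left h3, ← inv_pow, pow_mul]
    congr 1
    exact inv_eq_of_mul_eq_one_right
      (by rw [← pow_succ', Nat.sub_add_cancel (CSALib.orderOf_pos' _), pow_orderOf_eq_one])

attribute [local instance] Curv2.stalkAlgebra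

/-- An algebra with a left ideal of dimension its degree is split. -/
theorem splits_of_ideal {L : Type u} [Field L] [Algebra k L] {n : ℕ} (hn : 0 < n)
    (hA : Module.finrank k A = n * n) (I : BrSev.SBSet k A (n * n - n) L) : Curves.Splits k A L := by
  let J := I.1.toSubmodule
  have hJ : Module.finrank L J = n := by
    have h2 : Module.finrank L ((L ⊗[k] A) ⧸ J) = n * n - n := by
      have h3 := I.1.rankAtStalk_eq ⟨⊥, Ideal.isPrime_bot⟩
      rwa [Module.rankAtStalk_eq_finrank_of_free] at h3
    have h5 := J.finrank_quotient_add_finrank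
    have h1 : Module.finrank L (L ⊗[k] A) = n * n := by rw [Module.finrank_baseChange, hA]
    have h6 : n ≤ n * n := Nat.le_mul_of_pos_left n hn
    omega
  let Φ : L ⊗[k] A →ₐ[L] Module.End L J :=
    { toFun := fun a => ((LinearMap.mulLeft L a).comp J.subtype).codRestrict J fun x => I.2 a x x.2
      map_one' := LinearMap.ext fun x => Subtype.ext (one_mul _)
      map_mul' := fun a b => LinearMap.ext fun x => Subtype.ext (mul_assoc _ _ _)
      map_zero' := LinearMap.ext fun x => Subtype.ext (zero_mul _)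
      map_add' := fun a b => LinearMap.ext fun x => Subtype.ext (add_mul _ _ _)
      commutes' := fun c => LinearMap.ext fun x => Subtype.ext (Algebra.smul_def c (x : L ⊗[k] A)).symm }
  haveI : Nontrivial J := Module.finrank_pos_iff.1 (hJ ▸ hn)
  let bJ := Module.finBasisOfFinrankEq L J hJ
  have hbij : Function.Bijective Φ := CSALib.bijective_algHom (k := L) (A := L ⊗[k] A) (B := Module.End L J) Φ (by
    rw [Module.finrank_baseChange, hA, (algEquivMatrix bJ).toLinearEquiv.finrank_eq, Module.finrank_matrix,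
      Fintype.card_fin, Module.finrank_self, mul_one])
  exact ⟨n, hn.ne', ⟨(AlgEquiv.ofBijective Φ hbij).trans (algEquivMatrix bJ)⟩⟩

variable {X : Scheme.{u}} [X.Over (Spec (CommRingCat.of k))] [IsIntegral X]

/-- The function field splits the algebra. -/
theorem splits_functionField {n : ℕ} (hn : 0 < n) (hA : Module.finrank k A = n * n)
    (hX : BrSev.IsSBOf k A (n * n - n) (X ↘ Spec (CommRingCat.of k))) : Curves.Splits k A X.functionField := by
  obtain ⟨σ⟩ := hX
  refine splits_of_ideal hn hA (σ.bij X.functionField ⟨X.fromSpecStalk (genericPoint X), ?_⟩)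
  let p := X ↘ Spec (CommRingCat.of k)
  let η := genericPoint X
  have h : X.fromSpecStalk η ≫ p = Spec.map ((Scheme.ΓSpecIso (CommRingCat.of k)).inv ≫ p.appTop ≫
      X.presheaf.germ ⊤ η trivial) := by
    have hV := isAffineOpen_top (Spec (CommRingCat.of k))
    rw [← Scheme.SpecMap_stalkMap_fromSpecStalk p, ← hV.fromSpecStalk_eq_fromSpecStalk (x := p η) trivial]
    simp only [IsAffineOpen.fromSpecStalk, IsAffineOpen.fromSpec_top, Scheme.isoSpec_Spec_inv, ← Spec.map_comp]
    congr 1
    simp [Scheme.Hom.appTop]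
  exact h

/-- Amitsur's theorem. -/
theorem splits_iff {n : ℕ} (hn : 0 < n) (hA : Module.finrank k A = n * n)
    (hX : BrSev.IsSBOf k A (n * n - n) (X ↘ Spec (CommRingCat.of k))) {B : Type u} [Ring B] [Algebra k B]
    [Algebra.IsCentral k B] [IsSimpleRing B] [FiniteDimensional k B] :
    Curves.Splits k B X.functionField ↔ ∃ i : ℕ, CSALib.cl k B = CSALib.cl k A ^ i := by
  constructor
  · rintro ⟨d, hd, hB⟩
    obtain ⟨e⟩ := exists_splitting hn hA hX (AlgebraicClosure k)
    haveI : IsProper (X ↘ Spec (CommRingCat.of k)) := SBTaut.isProper_of_splitting e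
    haveI := CurvLib.isNoetherian k (X := X)
    have hfB : Module.finrank k B = d * d := by
      obtain ⟨ψ⟩ := hB
      have h := ψ.toLinearEquiv.finrank_eq
      rwa [Module.finrank_baseChange, Module.finrank_matrix, Fintype.card_fin, Module.finrank_self, mul_one] at h
    obtain ⟨W, hW, href, hrk, ⟨ρ⟩⟩ := exists_module (Nat.pos_of_ne_zero hd) hB
    obtain ⟨j, hWt, hcls, -⟩ := exists_type e rfl (Nat.pos_of_ne_zero hd) hfB hW href hrk ρ
    rw [← hcls]
    exact cls_mem hn hA hX e rfl hW (Nat.pos_of_ne_zero hd) hWt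
  · rintro ⟨i, hi⟩
    have h := (CSALib.res_eq_one_iff X.functionField).2 (splits_functionField hn hA hX)
    refine (CSALib.res_eq_one_iff X.functionField).1 ?_
    rw [hi, map_pow, h, one_pow]

end SBAmitsur
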