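import Groth.Agent.SBTautLib.Decomp
import Groth.Agent.PrimDecLib.Basic
import Groth.Agent.ReflexLib.Ops
import Groth.Agent.RefHullLib.NormalHull
import Groth.Agent.KFlatLib.FPFlatFree
import Groth.Prelude.Def_CurvBase

/-! A reflexive module with an action of an algebra split by the function field. -/

set_option autoImplicit false
set_option linter.style.haveILetI false
set_option linter.unusedSectionVars false
universe u

noncomputable section

open CategoryTheory CategoryTheory.Limits AlgebraicGeometry TopologicalSpace Opposite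
open scoped TensorProduct
open DevissLib (St gm)

namespace SBAmitsur

attribute [local instance] Abelian.hasFiniteBiproducts

section alg

/-- An algebra map to endomorphisms extends to the scalar extension. -/
theorem exists_algHom {k K : Type u} [Field k] [Field K] [Algebra k K] {A : Type u} [Ring A] [Algebra k A]
    {E : Type*} [Ring E] [Algebra K E] (g : A →+* E)
    (hg : ∀ r : k, g (algebraMap k A r) = algebraMap K E (algebraMap k K r)) :
    ∃ ρ : K ⊗[k] A →ₐ[K] E, ∀ a, ρ ((1 : K) ⊗ₜ[k] a) = g a := by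
  letI : Algebra k E := ((algebraMap K E).comp (algebraMap k K)).toAlgebra' fun r x => Algebra.commutes _ _
  haveI : IsScalarTower k K E := IsScalarTower.of_algebraMap_eq fun _ => rfl
  exact ⟨Algebra.TensorProduct.lift (Algebra.ofId K E) { g with commutes' := hg } fun x a => Algebra.commutes x _,
    fun a => by rw [Algebra.TensorProduct.lift_tmul, map_one, one_mul]; rfl⟩

/-- A preimage of a subspace is reflexive inside a free module. -/
theorem isReflexive_preimage {R L F V : Type u} [CommRing R] [IsDomain R] [IsNoetherianRing R] [Field L]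
    [Algebra R L] [AddCommGroup F] [Module R F] [Module.Free R F] [Module.Finite R F] [AddCommGroup V] [Module L V]
    [Module R V] [IsScalarTower R L V] [Module.Finite L V] (hRL : Function.Injective (algebraMap R L))
    (l : F →ₗ[R] V) (I : Submodule L V) {M : Type u} [AddCommGroup M] [Module R M] (i : M →ₗ[R] F)
    (hi : Function.Injective i) (hr : ∀ v, (∃ m, i m = v) ↔ l v ∈ I) : Module.IsReflexive R M := by
  let g : F →ₗ[R] V ⧸ I := ((Submodule.mkQ I).restrictScalars R).comp l
  let g' : F →ₗ[R] LinearMap.range g := g.rangeRestrict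
  haveI : Module.Finite R (LinearMap.range g) := Module.Finite.range g
  haveI : Module.IsTorsionFree R (LinearMap.range g) := by
    refine Module.IsTorsionFree.mk fun r hr0 x y hxy => ?_
    have hne : algebraMap R L r ≠ 0 := fun h => hr0.ne_zero ((hRL (h.trans (map_zero _).symm)))
    refine Subtype.ext (smul_right_injective (V ⧸ I) hne ?_)
    have h1 := congrArg Subtype.val hxy
    show algebraMap R L r • (x : V ⧸ I) = algebraMap R L r • (y : V ⧸ I)
    rw [algebraMap_smul, algebraMap_smul]
    exact h1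
  haveI : Module.Finite R M := Module.Finite.of_injective i hi
  refine ReflexLib.isReflexive_of_exact (M' := F) (M'' := LinearMap.range g) i g' hi fun v => ?_
  rw [Set.mem_range, hr v, show (g' v = 0) ↔ (g v = 0) from ⟨fun h => congrArg Subtype.val h, fun h => Subtype.ext h⟩]
  exact Submodule.Quotient.mk_eq_zero I

/-- A minimal invariant subspace for the action of a matrix algebra. -/
theorem exists_invariant {L : Type u} [Field L] {d : ℕ} (hd : 0 < d) {V : Type u} [AddCommGroup V] [Module L V]
    [Nontrivial V] (μ : Matrix (Fin d) (Fin d) L →ₐ[L] Module.End L V) :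
    ∃ I : Submodule L V, Module.finrank L I = d ∧ ∀ x, ∀ v ∈ I, μ x v ∈ I := by
  classical
  haveI : NeZero d := ⟨hd.ne'⟩
  let E : Fin d → Fin d → Module.End L V := fun a b => μ (Matrix.single a b 1)
  have hmul : ∀ a b c e (v : V), E a b (E c e v) = if b = c then E a e v else 0 := fun a b c e v => by
    show (μ (Matrix.single a b 1) * μ (Matrix.single c e 1)) v = _
    rw [← map_mul]
    split_ifs with h
    · subst h; rw [Matrix.single_mul_single_same, mul_one]
    · rw [Matrix.single_mul_single_of_ne (h := h), map_zero]; rfl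
  obtain ⟨v, hv⟩ := exists_ne (0 : V)
  obtain ⟨j, hj⟩ : ∃ j, E j j v ≠ 0 := by
    by_contra hcon
    push Not at hcon
    refine hv ?_
    have h1 : (∑ j, E j j) v = v := by
      show (∑ j, μ (Matrix.single j j 1)) v = v
      rw [← map_sum, Matrix.sum_single_one, map_one]
      rfl
    rw [← h1, LinearMap.sum_apply, Finset.sum_eq_zero fun j _ => hcon j]
  let w := E 0 j v
  have hw : w ≠ 0 := fun h => hj (by
    have h2 := hmul j 0 0 j v
    rw [if_pos rfl] at h2
    rw [← h2]
    show E j 0 w = 0
    rw [h, map_zero])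
  have hw' : E 0 0 w = w := by
    show E 0 0 (E 0 j v) = E 0 j v
    rw [hmul, if_pos rfl]
  let u : Fin d → V := fun a => E a 0 w
  have hli : LinearIndependent L u := Fintype.linearIndependent_iff.2 fun c hc l => by
    have h1 := congrArg (E 0 l) hc
    simp only [u, map_sum, map_smul, hmul, map_zero] at h1
    rw [Finset.sum_eq_single l (fun b _ hb => by rw [if_neg (Ne.symm hb), smul_zero])
      (fun h => absurd (Finset.mem_univ l) h), if_pos rfl, hw'] at h1
    exact (smul_eq_zero.1 h1).resolve_right hw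
  refine ⟨Submodule.span L (Set.range u), by rw [finrank_span_eq_card hli, Fintype.card_fin], fun x v hv' => ?_⟩
  refine Submodule.span_induction (fun y hy => ?_) (by rw [map_zero]; exact zero_mem _)
    (fun y z _ _ hy hz => by rw [map_add]; exact add_mem hy hz)
    (fun c y _ hy => by rw [map_smul]; exact Submodule.smul_mem _ c hy) hv'
  obtain ⟨b, rfl⟩ := hy
  rw [Matrix.matrix_eq_sum_single x, map_sum, LinearMap.sum_apply]
  refine Submodule.sum_mem _ fun a _ => ?_
  rw [map_sum, LinearMap.sum_apply]
  refine Submodule.sum_mem _ fun c _ => ?_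
  rw [show Matrix.single a c (x a c) = x a c • Matrix.single a c (1 : L) by rw [Matrix.smul_single, smul_eq_mul, mul_one],
    map_smul, LinearMap.smul_apply]
  refine Submodule.smul_mem _ _ ?_
  show E a c (E b 0 w) ∈ _
  rw [hmul]
  split_ifs
  · exact Submodule.subset_span ⟨a, rfl⟩
  · exact zero_mem _

end alg

variable {k : Type u} [Field k] {X : Scheme.{u}} [X.Over (Spec (CommRingCat.of k))]

theorem gm_smul_cst (M : X.Modules) (r : k) (x : X) {U : X.Opens} (hx : x ∈ U) (m : Γ(M, U)) :
    gm M x hx ((r • 𝟙 M : M ⟶ M).app U m) = Curv2.stalkMap k X x r • gm M x hx m := by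
  rw [KLin.smul_app_apply]
  show gm M x hx (X.presheaf.map (homOfLE (le_top : U ≤ ⊤)).op _ • m) = _
  rw [DevissLib.gm_smul, TopCat.Presheaf.germ_res_apply]
  rfl

theorem St_smul (M : X.Modules) (r : k) (x : X) (v : (St x).obj M) :
    ((St x).map (r • 𝟙 M)).hom v = Curv2.stalkMap k X x r • v := by
  obtain ⟨U, hx, m, rfl⟩ := DevissLib.exists_gm_eq M x v
  rw [DevissLib.gm_app, gm_smul_cst]

/-- The regular representation on a free module. -/
theorem exists_regHom (O : X.Modules) {B : Type u} [Ring B] [Algebra k B] {N : ℕ} (bB : Module.Basis (Fin N) k B) :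
    Nonempty (B →ₐ[k] End (⨁ fun _ : Fin N => O)) := by
  let M := Algebra.leftMulMatrix bB
  let ν : B → (⨁ (fun _ : Fin N => O) ⟶ ⨁ fun _ : Fin N => O) := fun b => biproduct.matrix fun j i => M b i j • 𝟙 O
  have hν : ∀ b i j, biproduct.ι _ j ≫ ν b ≫ biproduct.π _ i = M b i j • 𝟙 O := fun b i j => by
    simp [ν]
  have hext : ∀ f g : (⨁ fun _ : Fin N => O) ⟶ ⨁ fun _ : Fin N => O,
      (∀ i j, biproduct.ι _ j ≫ f ≫ biproduct.π _ i = biproduct.ι _ j ≫ g ≫ biproduct.π _ i) → f = g :=
    fun f g h => biproduct.hom_ext' _ _ fun j => biproduct.hom_ext _ _ fun i => by simpa using h i j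
  have hone : ν 1 = 𝟙 _ := hext _ _ fun i j => by
    rw [hν, Category.id_comp]
    simp only [M, map_one, Matrix.one_apply]
    by_cases h : i = j
    · subst h; rw [if_pos rfl, one_smul, biproduct.ι_π_self]
    · rw [if_neg h, zero_smul, biproduct.ι_π_ne _ (Ne.symm h)]
  refine ⟨{ toFun := ν, map_one' := hone, map_mul' := fun b b' => hext _ _ fun i j => ?_, map_zero' := hext _ _ fun i j => ?_,
            map_add' := fun b b' => hext _ _ fun i j => ?_, commutes' := fun r => hext _ _ fun i j => ?_ }⟩
  · rw [hν]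
    show _ = biproduct.ι _ j ≫ (ν b' ≫ ν b) ≫ biproduct.π _ i
    rw [Category.assoc, ← Category.id_comp (ν b ≫ _), ← biproduct.total (f := fun _ : Fin N => O), Preadditive.sum_comp,
      Preadditive.comp_sum,
      Preadditive.comp_sum]
    simp only [M, map_mul, Matrix.mul_apply, Finset.sum_smul]
    refine Finset.sum_congr rfl fun l _ => ?_
    rw [Category.assoc, reassoc_of% hν, hν]
    simp [smul_smul, mul_comm, M]
  · rw [hν, map_zero, Matrix.zero_apply, zero_smul]
    show 0 = biproduct.ι (fun _ : Fin N => O) j ≫ (0 : (⨁ fun _ : Fin N => O) ⟶ ⨁ fun _ : Fin N => O) ≫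
      biproduct.π (fun _ : Fin N => O) i
    simp
  · rw [hν]
    show _ = biproduct.ι _ j ≫ (ν b + ν b') ≫ biproduct.π _ i
    rw [Preadditive.add_comp, Preadditive.comp_add, hν, hν, map_add, Matrix.add_apply, add_smul]
  · rw [hν]
    rw [Algebra.algebraMap_eq_smul_one, Algebra.algebraMap_eq_smul_one, map_smul, map_one]
    show _ = biproduct.ι _ j ≫ (r • 𝟙 (⨁ fun _ : Fin N => O)) ≫ biproduct.π _ i
    rw [Linear.smul_comp, Linear.comp_smul, Category.id_comp, Matrix.smul_apply, Matrix.one_apply, smul_eq_mul]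
    by_cases h : i = j
    · subst h; rw [if_pos rfl, mul_one, biproduct.ι_π_self]
    · rw [if_neg h, mul_zero, zero_smul, biproduct.ι_π_ne _ (Ne.symm h), smul_zero]

variable [IsIntegral X] [IsLocallyNoetherian X]

attribute [local instance] Curv2.stalkAlgebra

/-- A split algebra acts on a reflexive module of rank its degree. -/
theorem exists_module {B : Type u} [Ring B] [Algebra k B] [FiniteDimensional k B] [Nontrivial B] {d : ℕ} (hd : 0 < d)
    (hB : Nonempty (X.functionField ⊗[k] B ≃ₐ[X.functionField] Matrix (Fin d) (Fin d) X.functionField)) :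
    ∃ W : X.Modules, Coh.IsCoh W ∧ (∀ x : X, Module.IsReflexive (X.presheaf.stalk x) ((St x).obj W)) ∧
      Module.finrank (X.presheaf.stalk (genericPoint X)) ((St (genericPoint X)).obj W) = d ∧
      Nonempty (B →ₐ[k] End W) := by
  classical
  obtain ⟨ψ⟩ := hB
  let N := Module.finrank k B
  have hN : 0 < N := Module.finrank_pos
  let η := genericPoint X
  let L := X.functionField
  let F₀ : X.Modules := ⨁ fun _ : Fin N => Coh.structureModule X
  have eF : F₀ ≅ FlatMod.freeMod X N := biproduct.isoCoproduct _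
  obtain ⟨ν⟩ := exists_regHom (Coh.structureModule X) (Module.finBasis k B)
  let tη := ((St η).mapIso eF ≪≫ KFlatLib.stalkFreeModIso X η N).toLinearEquiv
  letI : Field (X.presheaf.stalk η) := (inferInstance : Field X.functionField)
  let V := (St η).obj F₀
  haveI : Module.Finite (X.presheaf.stalk η) V := Module.Finite.equiv tη.symm
  haveI : Nontrivial V := by
    haveI : Nonempty (Fin N) := ⟨⟨0, hN⟩⟩
    exact tη.toEquiv.nontrivial
  let g : B →+* Module.End (X.presheaf.stalk η) V :=
    { toFun := fun b => ((St η).map (ν b : F₀ ⟶ F₀)).hom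
      map_one' := by rw [map_one]; exact congrArg ModuleCat.Hom.hom ((St η).map_id F₀)
      map_mul' := fun b b' => by
        rw [map_mul]
        exact congrArg ModuleCat.Hom.hom ((St η).map_comp (ν b' : F₀ ⟶ F₀) (ν b))
      map_zero' := by rw [map_zero]; exact congrArg ModuleCat.Hom.hom ((St η).map_zero F₀ F₀)
      map_add' := fun b b' => by rw [map_add]; exact congrArg ModuleCat.Hom.hom ((St η).map_add (f := (ν b : F₀ ⟶ F₀)) (g := ν b')) }
  obtain ⟨Ψ, hΨ⟩ := exists_algHom (k := k) (K := X.presheaf.stalk η) g fun r => by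
    show ((St η).map (ν (algebraMap k B r) : F₀ ⟶ F₀)).hom = _
    rw [AlgHom.commutes, Algebra.algebraMap_eq_smul_one, Algebra.algebraMap_eq_smul_one]
    refine LinearMap.ext fun v => ?_
    exact (St_smul F₀ r η v).trans rfl
  obtain ⟨I, hI, hst⟩ := exists_invariant hd (Ψ.comp ψ.symm.toAlgHom)
  have hstab : ∀ (b : B), ∀ v ∈ I, ((St η).map (ν b : F₀ ⟶ F₀)).hom v ∈ I := fun b v hv => by
    have h1 := hst (ψ ((1 : L) ⊗ₜ[k] b)) v hv
    have h2 : (Ψ.comp ψ.symm.toAlgHom) (ψ ((1 : L) ⊗ₜ[k] b)) = Ψ ((1 : L) ⊗ₜ[k] b) := by simp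
    rw [h2] at h1
    convert h1 using 1
    have h3 : Ψ ((1 : X.presheaf.stalk η) ⊗ₜ[k] b) = g b := hΨ b
    exact (congrArg (fun t : Module.End (X.presheaf.stalk η) V => t v) h3).symm
  let Q : ∀ x : X, Submodule (X.presheaf.stalk x) ((St x).obj F₀) := fun x =>
    if h : x = η then h ▸ I else ⊤
  have hQη : Q η = I := dif_pos rfl
  have hmemQ : ∀ {V' : X.Opens} {a : Γ(F₀, V')}, (PrimDecLib.LS F₀ {η} Q).mem V' a ↔
      ∀ h : η ∈ V', gm F₀ η h a ∈ I := fun {V' a} => by
    refine ⟨fun h hη => hQη ▸ h η (Finset.mem_singleton_self η) hη, fun h x hx hxV => ?_⟩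
    obtain rfl := Finset.mem_singleton.1 hx
    exact hQη.symm ▸ h hxV
  let S := PrimDecLib.LS F₀ {η} Q
  have hF₀ : Coh.IsCoh F₀ := CurveSDLib.isCoh_biproduct fun _ => Groth.Agent.PerfLib.isCoh_of_isFinLocFree
    (AmpleDevLib.isFinLocFree_of_isInvertible CurvLib.isInvertible_structureModule)
  have hW : Coh.IsCoh S.toModules := PrimDecLib.isCoh_LS hF₀ {η} Q fun x hx r hr => by
    obtain rfl := Finset.mem_singleton.1 hx
    refine ⟨1, fun n => ?_⟩
    have hr0 : r = 0 := by_contra fun h => hr (isUnit_iff_ne_zero.2 h)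
    rw [hr0, pow_one, zero_smul]
    exact (Q η).zero_mem
  have hrange : ∀ (x : X) (v : (St x).obj F₀), (∃ m, ((St x).map S.ι).hom m = v) ↔
      F₀.presheaf.stalkSpecializes (RefHullLib.specializes_generic x) v ∈ I := by
    intro x v
    rw [PrimDecLib.mem_range_ι_iff]
    constructor
    · rintro ⟨U, hx, s, hs, rfl⟩
      rw [show F₀.presheaf.stalkSpecializes (RefHullLib.specializes_generic x) (gm F₀ x hx s) =
        gm F₀ η ((RefHullLib.specializes_generic x).mem_open U.2 hx) s from
          TopCat.Presheaf.germ_stalkSpecializes_apply F₀.presheaf hx _ s]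
      exact hmemQ.1 hs _
    · intro hv
      obtain ⟨U, hx, s, rfl⟩ := DevissLib.exists_gm_eq F₀ x v
      rw [show F₀.presheaf.stalkSpecializes (RefHullLib.specializes_generic x) (gm F₀ x hx s) =
        gm F₀ η ((RefHullLib.specializes_generic x).mem_open U.2 hx) s from
          TopCat.Presheaf.germ_stalkSpecializes_apply F₀.presheaf hx _ s] at hv
      exact ⟨U, hx, s, hmemQ.2 fun _ => hv, rfl⟩
  have hinj : ∀ x : X, Function.Injective ((St x).map S.ι).hom := fun x =>
    (ModuleCat.mono_iff_injective ((St x).map S.ι)).1 inferInstance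
  refine ⟨S.toModules, hW, fun x => ?_, ?_, ?_⟩
  · let tx := ((St x).mapIso eF ≪≫ KFlatLib.stalkFreeModIso X x N).toLinearEquiv
    haveI : Module.Free (X.presheaf.stalk x) ((St x).obj F₀) := Module.Free.of_equiv tx.symm
    haveI : Module.Finite (X.presheaf.stalk x) ((St x).obj F₀) := Module.Finite.equiv tx.symm
    letI : Module (X.presheaf.stalk x) V :=
      Module.compHom V (algebraMap (X.presheaf.stalk x) X.functionField)
    letI : Module X.functionField V := (inferInstance : Module (X.presheaf.stalk η) V)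
    haveI : IsScalarTower (X.presheaf.stalk x) X.functionField V :=
      IsScalarTower.of_algebraMap_smul fun _ _ => rfl
    haveI : Module.Finite X.functionField V := ‹Module.Finite (X.presheaf.stalk η) V›
    let l : (St x).obj F₀ →ₗ[X.presheaf.stalk x] V :=
      { toFun := F₀.presheaf.stalkSpecializes (RefHullLib.specializes_generic x)
        map_add' := map_add _
        map_smul' := fun a v => RefHullLib.stalkSpecializes_smul F₀ _ a v }
    exact isReflexive_preimage (IsFractionRing.injective (X.presheaf.stalk x) X.functionField) l I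
      ((St x).map S.ι).hom (hinj x) (hrange x)
  · have h1 : LinearMap.range ((St η).map S.ι).hom = I := by
      ext v
      rw [LinearMap.mem_range, hrange]
      obtain ⟨U, hx, s, rfl⟩ := DevissLib.exists_gm_eq F₀ η v
      rw [show F₀.presheaf.stalkSpecializes (RefHullLib.specializes_generic η) (gm F₀ η hx s) = gm F₀ η hx s from
          TopCat.Presheaf.germ_stalkSpecializes_apply F₀.presheaf hx _ s]
      exact Iff.rfl
    rw [← LinearMap.finrank_range_of_inj (hinj η), h1, hI]
  · have hfac : ∀ b : B, ∃ τ : S.toModules ⟶ S.toModules, τ ≫ S.ι = S.ι ≫ (ν b : F₀ ⟶ F₀) := fun b => by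
      have hz : (S.ι ≫ (ν b : F₀ ⟶ F₀)) ≫ cokernel.π S.ι = 0 := by
        refine Scheme.Modules.hom_ext _ _ fun U => ConcreteCategory.hom_ext _ _ fun a => ?_
        show (cokernel.π S.ι).app U ((ν b : F₀ ⟶ F₀).app U (S.ι.app U a)) = 0
        have hm : S.mem U ((ν b : F₀ ⟶ F₀).app U (S.ι.app U a)) := hmemQ.2 fun h => by
          rw [← DevissLib.gm_app]
          exact hstab b _ (hmemQ.1 (S.ι_app_mem a) h)
        rw [← S.ι_lift _ hm]
        exact congr_arg (fun θ : S.toModules ⟶ cokernel S.ι => θ.app _ (S.lift _ hm)) (cokernel.condition S.ι)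
      exact ⟨Abelian.monoLift S.ι _ hz, Abelian.monoLift_comp _ _ hz⟩
    choose τ hτ using hfac
    refine ⟨{ toFun := τ
              map_one' := (cancel_mono S.ι).1 ?_
              map_mul' := fun b b' => (cancel_mono S.ι).1 ?_
              map_zero' := (cancel_mono S.ι).1 ?_
              map_add' := fun b b' => (cancel_mono S.ι).1 ?_
              commutes' := fun r => (cancel_mono S.ι).1 ?_ }⟩
    · rw [hτ, map_one]
      show S.ι ≫ 𝟙 _ = 𝟙 _ ≫ S.ι
      simp
    · rw [hτ, map_mul]
      show S.ι ≫ (ν b' : F₀ ⟶ F₀) ≫ ν b = (τ b' ≫ τ b) ≫ S.ι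
      rw [Category.assoc, hτ b, reassoc_of% hτ b']
    · rw [hτ, map_zero]
      show S.ι ≫ (0 : F₀ ⟶ F₀) = (0 : S.toModules ⟶ S.toModules) ≫ S.ι
      simp
    · rw [hτ, map_add]
      show S.ι ≫ ((ν b : F₀ ⟶ F₀) + ν b') = (τ b + τ b') ≫ S.ι
      rw [Preadditive.comp_add, Preadditive.add_comp, hτ, hτ]
    · rw [hτ, AlgHom.commutes, Algebra.algebraMap_eq_smul_one, Algebra.algebraMap_eq_smul_one]
      show S.ι ≫ (r • 𝟙 F₀) = (r • 𝟙 S.toModules) ≫ S.ι
      rw [Linear.comp_smul, Linear.smul_comp, Category.comp_id, Category.id_comp]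

end SBAmitsur
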