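import Groth.Agent.SBTautLib.Proper
import Groth.Agent.SBAmitsurLib.Sub
import Groth.Agent.S16491
import Groth.Agent.S6874
import Groth.Agent.GenusZeroLib.PSmooth

/-! Reflexive modules with an action of a central simple algebra of their rank are twisted isotypical. -/

set_option autoImplicit false
set_option linter.style.haveILetI false
set_option linter.unusedSectionVars false
universe u

noncomputable section

open CategoryTheory CategoryTheory.Limits AlgebraicGeometry TopologicalSpace Opposite
open scoped TensorProduct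
open DevissLib (St)
open KFlatLib (pb)
open W4c1astiltbs12 (pow)

namespace SBAmitsur

attribute [local instance] Abelian.hasFiniteBiproducts

variable {k : Type u} [Field k] {X : Scheme.{u}} {f : X ⟶ Spec (CommRingCat.of k)} {m : ℕ}
  {K : Type u} [Field K] [Algebra k K] (e : BrSev.Splitting f K m)

include e in
theorem regular_bc (z : BrSev.bc f K) : IsRegularLocalRing ((BrSev.bc f K).presheaf.stalk z) := by
  letI : (CohB1.ProjSpace m K).Over (Spec (CommRingCat.of K)) := ⟨CohB1.ProjSpace.toSpec m K⟩
  haveI : Smooth (CohB1.ProjSpace m K ↘ Spec (CommRingCat.of K)) := GenusZeroLib.smooth_toSpec (R := K) (n := m)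
  haveI := CurveVBLib.regular_stalk (k := K) (X := CohB1.ProjSpace m K) (e.iso.hom z)
  exact IsRegularLocalRing.of_ringEquiv (asIso (e.iso.hom.stalkMap z)).commRingCatIsoToRingEquiv

theorem surjective_proj : Surjective (BrSev.proj f K) := by
  haveI : Surjective (Spec.map (CommRingCat.ofHom (algebraMap k K))) :=
    ⟨fun x => ⟨Classical.arbitrary _, Subsingleton.elim _ _⟩⟩
  infer_instance

theorem proj_genericPoint [IsIntegral X] [IsIntegral (BrSev.bc f K)] :
    BrSev.proj f K (genericPoint (BrSev.bc f K)) = genericPoint X := by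
  haveI := surjective_proj (f := f) (K := K)
  refine IsGenericPoint.eq ?_ (genericPoint_spec X)
  refine Set.eq_univ_of_forall fun y => ?_
  obtain ⟨z, rfl⟩ := (BrSev.proj f K).surjective y
  exact ((genericPoint_spec (BrSev.bc f K)).specializes trivial |>.map (BrSev.proj f K).continuous).mem_closure

variable [IsProper f] [IsIntegral X] [X.Over (Spec (CommRingCat.of k))] (hX : X ↘ Spec (CommRingCat.of k) = f)
  [IsAlgClosed K]

include hX e in
/-- A reflexive module with an action of a central simple algebra of its rank. -/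
theorem exists_type {B : Type u} [Ring B] [Algebra k B] [Algebra.IsCentral k B] [IsSimpleRing B]
    [FiniteDimensional k B] {d : ℕ} (hd : 0 < d) (hB : Module.finrank k B = d * d) {W : X.Modules}
    (hW : Coh.IsCoh W) (href : ∀ x : X, Module.IsReflexive (X.presheaf.stalk x) ((St x).obj W))
    (hrk : Module.finrank (X.presheaf.stalk (genericPoint X)) ((St (genericPoint X)).obj W) = d)
    (ρ : B →ₐ[k] End W) :
    ∃ j : ℤ, BrSev.IsTwPow e j d W ∧ SBTw.cls k W = CSALib.cl k B ∧ FlatMod.IsFinLocFree W := by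
  haveI : IsProper (X ↘ Spec (CommRingCat.of k)) := hX ▸ ‹IsProper f›
  haveI := CurvLib.isNoetherian k (X := X)
  letI : (BrSev.bc f K).Over (Spec (CommRingCat.of K)) := ⟨BrSev.bcTo f K⟩
  haveI : IsProper (BrSev.bc f K ↘ Spec (CommRingCat.of K)) :=
    inferInstanceAs (IsProper (pullback.snd f (Spec.map (CommRingCat.ofHom (algebraMap k K)))))
  haveI := CurvLib.isNoetherian K (X := BrSev.bc f K)
  haveI := SBTw.isIntegral_bc e
  haveI : NeZero d := ⟨hd.ne'⟩
  obtain ⟨d', hd', ⟨eK⟩⟩ := CSALib.exists_matrix_of_isSepClosed (k := K) (K ⊗[k] B)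
  have hdd : d' = d := by
    have h := eK.toLinearEquiv.finrank_eq
    rw [Module.finrank_baseChange, hB, Module.finrank_matrix, Fintype.card_fin, Module.finrank_self, mul_one] at h
    exact (Nat.mul_self_inj.1 h).symm
  subst hdd
  let P := Scheme.Modules.pullback (BrSev.proj f K)
  let g : B →+* End (P.obj W) :=
    { toFun := fun x => P.map (ρ x)
      map_one' := by rw [map_one]; exact P.map_id _
      map_mul' := fun x y => by
        rw [map_mul]
        show P.map ((ρ y : W ⟶ W) ≫ ρ x) = P.map (ρ y : W ⟶ W) ≫ P.map (ρ x)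
        exact P.map_comp _ _
      map_zero' := by rw [map_zero]; exact P.map_zero _ _
      map_add' := fun x y => by rw [map_add]; exact P.map_add }
  obtain ⟨Ρ⟩ := SBTaut.nonempty_algHom (k := k) (K := K) g fun r => by
    show P.map (ρ (algebraMap k B r)) = _
    rw [AlgHom.commutes, Algebra.algebraMap_eq_smul_one, Algebra.algebraMap_eq_smul_one]
    exact (SBTw.map_smul' (KSMod.bcSq f K) hX rfl r (𝟙 W)).trans (congrArg (algebraMap k K r • ·) (P.map_id _))
  obtain ⟨G, i, q, hiq, ⟨eG⟩⟩ := SBTaut.exists_iso_biproduct (Ρ.toRingHom.comp eK.symm.toAlgHom.toRingHom)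
  haveI := hW.1
  have hWK : Coh.IsCoh (P.obj W) := ConsLib.isCoh_pullback (BrSev.proj f K) hW
  have hG : Coh.IsCoh G := KSMod.isCoh_of_retract i q hiq hWK
  let gz := fun z => (BrSev.proj f K).stalkMap z
  have hpull : ∀ z : BrSev.bc f K, letI := (gz z).hom.toAlgebra
      ∃ θ : (BrSev.bc f K).presheaf.stalk z ⊗[X.presheaf.stalk (BrSev.proj f K z)] (St (BrSev.proj f K z)).obj W
        ≃ₗ[(BrSev.bc f K).presheaf.stalk z] (St z).obj (P.obj W), True := fun z => by
    obtain ⟨θ, -⟩ := CohCmpLib.exists_stalkPullEquiv (BrSev.proj f K) W z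
    exact ⟨θ, trivial⟩
  have hrefG : ∀ z, Module.IsReflexive ((BrSev.bc f K).presheaf.stalk z) ((St z).obj G) := fun z => by
    let φ := (BrSev.proj f K).stalkMap z
    letI := (gz z).hom.toAlgebra
    haveI : Module.Flat (X.presheaf.stalk (BrSev.proj f K z)) ((BrSev.bc f K).presheaf.stalk z) :=
      Flat.stalkMap (BrSev.proj f K) z
    haveI : Module.Finite (X.presheaf.stalk (BrSev.proj f K z)) ((St (BrSev.proj f K z)).obj W) :=
      DepthLib.finite_stalk W hW.2 (BrSev.proj f K z)
    haveI := href (BrSev.proj f K z)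
    obtain ⟨θ, -⟩ := hpull z
    haveI := Groth.Agent.S6874.result (X.presheaf.stalk (BrSev.proj f K z)) ((BrSev.bc f K).presheaf.stalk z)
      ((St (BrSev.proj f K z)).obj W)
    haveI : Module.IsReflexive ((BrSev.bc f K).presheaf.stalk z) ((St z).obj (P.obj W)) := .of_split θ.symm.toLinearMap
      θ.toLinearMap (LinearMap.ext fun x => θ.apply_symm_apply x)
    refine .of_split ((St z).map i).hom ((St z).map q).hom ?_
    rw [← ModuleCat.hom_comp, ← Functor.map_comp, hiq, CategoryTheory.Functor.map_id]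
    rfl
  let ξ := genericPoint (BrSev.bc f K)
  have h1 : CurvLib.genRank G = 1 := by
    letI : Field ((BrSev.bc f K).presheaf.stalk ξ) := (inferInstance : Field (BrSev.bc f K).functionField)
    obtain ⟨θ, -⟩ := hpull ξ
    let t := ((St ξ).mapIso eG ≪≫ (St ξ).mapBiproduct _ ≪≫ ModuleCat.biproductIsoPi _).toLinearEquiv
    have h2 : Module.finrank ((BrSev.bc f K).presheaf.stalk ξ) ((St ξ).obj (P.obj W)) = d' := by
      rw [← θ.finrank_eq]
      have h3 : ∀ y : X, y = genericPoint X → ∀ [Algebra (X.presheaf.stalk y) ((BrSev.bc f K).presheaf.stalk ξ)],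
          Module.finrank ((BrSev.bc f K).presheaf.stalk ξ)
            ((BrSev.bc f K).presheaf.stalk ξ ⊗[X.presheaf.stalk y] (St y).obj W) = d' := by
        rintro y rfl _
        letI : Field (X.presheaf.stalk (genericPoint X)) := (inferInstance : Field X.functionField)
        rw [Module.finrank_baseChange, hrk]
      letI := (gz ξ).hom.toAlgebra
      exact h3 _ proj_genericPoint
    have hGf : Module.Finite ((BrSev.bc f K).presheaf.stalk ξ) ((St ξ).obj G) :=
      haveI := hG.1
      DepthLib.finite_stalk G hG.2 ξ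
    haveI : ∀ j : Fin d', Module.Finite ((BrSev.bc f K).presheaf.stalk ξ) (((St ξ).obj ∘ fun _ : Fin d' => G) j) :=
      fun _ => hGf
    haveI : ∀ j : Fin d', Module.Free ((BrSev.bc f K).presheaf.stalk ξ) (((St ξ).obj ∘ fun _ : Fin d' => G) j) :=
      fun _ => Module.Free.of_divisionRing _ _
    rw [t.finrank_eq, Module.finrank_pi_fintype] at h2
    have h4 : ∑ _x : Fin d', CurvLib.genRank G = d' := h2
    rw [Finset.sum_const, Finset.card_univ, Fintype.card_fin, smul_eq_mul] at h4
    exact Nat.eq_of_mul_eq_mul_left hd (h4.trans (mul_one d').symm)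
  have hGfree : ∀ z, Module.Free ((BrSev.bc f K).presheaf.stalk z) ((St z).obj G) := fun z => by
    haveI := regular_bc e z
    exact Groth.Agent.S16491.free_stalk hG ((RefHullLib.isReflexive_iff hG).2 hrefG) h1 z
  have hGfl : FlatMod.IsFinLocFree G := by
    haveI := hG.1
    exact Groth.Agent.S1688.isFinLocFree_of_isFP_of_flat (QCohLib.isFP_of_isCoh G hG) fun z => by
      haveI := hGfree z
      exact (inferInstance : Module.Flat ((BrSev.bc f K).presheaf.stalk z) ((St z).obj G))
  have hGinv : PicF.IsInvertible G := by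
    have h := CurveVBLib.rank_genRank hGfl
    rw [h1] at h
    exact Groth.Agent.S16491.isInvertible_of_rank_one h
  have hWflat : FlatMod.IsFinLocFree W := Groth.Agent.S1688.isFinLocFree_of_isFP_of_flat (QCohLib.isFP_of_isCoh W hW) fun x => by
    haveI := surjective_proj (f := f) (K := K)
    obtain ⟨z, rfl⟩ := (BrSev.proj f K).surjective x
    letI := (gz z).hom.toAlgebra
    haveI : IsLocalHom (algebraMap (X.presheaf.stalk (BrSev.proj f K z)) ((BrSev.bc f K).presheaf.stalk z)) :=
      inferInstanceAs (IsLocalHom ((BrSev.proj f K).stalkMap z).hom)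
    haveI : Module.Flat (X.presheaf.stalk (BrSev.proj f K z)) ((BrSev.bc f K).presheaf.stalk z) :=
      Flat.stalkMap (BrSev.proj f K) z
    haveI : Module.FaithfullyFlat (X.presheaf.stalk (BrSev.proj f K z)) ((BrSev.bc f K).presheaf.stalk z) :=
      Module.FaithfullyFlat.of_flat_of_isLocalHom
    obtain ⟨θ, -⟩ := hpull z
    let t := ((St z).mapIso eG ≪≫ (St z).mapBiproduct _ ≪≫ ModuleCat.biproductIsoPi _).toLinearEquiv
    haveI : ∀ j : Fin d', Module.Free ((BrSev.bc f K).presheaf.stalk z) (((St z).obj ∘ fun _ : Fin d' => G) j) :=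
      fun _ => hGfree z
    haveI := Module.Free.of_equiv (θ.trans t).symm
    haveI : Module.Flat ((BrSev.bc f K).presheaf.stalk z)
        ((BrSev.bc f K).presheaf.stalk z ⊗[X.presheaf.stalk (BrSev.proj f K z)] (W.presheaf.stalk (BrSev.proj f K z))) :=
      Module.Flat.of_linearEquiv (θ.trans t)
    exact Module.Flat.of_flat_tensorProduct (X.presheaf.stalk (BrSev.proj f K z)) _ ((BrSev.bc f K).presheaf.stalk z)
  obtain ⟨j, ⟨u⟩⟩ := KSMod.exists_iso_twist e hGinv
  have hWt : BrSev.IsTwPow e j d' W := ⟨eG ≪≫ biproduct.isoCoproduct _ ≪≫ Sigma.mapIso fun _ => u⟩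
  obtain ⟨c1, c2, c3, c4⟩ := SBTw.end_twPow e hX hW hd hWt
  refine ⟨j, hWt, ?_, hWflat⟩
  rw [SBTw.cls_eq]
  exact (CSALib.cl_congr (AlgEquiv.ofBijective ρ (CSALib.bijective_algHom _ (hB.trans c3.symm)))).symm

end SBAmitsur
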